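import Cfsg.Agent.H419.Count_m3
import Cfsg.Agent.Lib.GoldschmidtFusion
import Cfsg.Agent.H716.CopRow
import Cfsg.Agent.H254.CopCard_m3
import Cfsg.Agent.H967.CopSec
import Cfsg.Agent.FastGrp
import Cfsg.Agent.Prune
set_option linter.all false
prune_inst 0x7f00000000000000000000000000000000000000000000000000000000000000000000000000000000000000000000000000000000000000000000000000000000000000000000000000000000000000003fffffffffffffffffffffffffffbeffbdffffffff
open scoped Cfsg.Agent.FastGrp

-- part: H730/RowP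
section
/-!
# Vanishing elements with class size divisible by `p` (helper730)

`RowP S p` : some element `s` of `S` is a zero of an irreducible character `θ` together with all its
images under automorphisms of `S`, and `p` divides the size of the class of `s`.
-/

set_option autoImplicit false
set_option linter.dupNamespace false

namespace Cfsg.Agent.H730

open Cfsg Cfsg.Agent.H713 Subgroup

/-- A `VZ` element whose class size is divisible by `p`. -/
def RowP (S : Type*) [Group S] (p : ℕ) : Prop :=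
  ∃ s : S, VZ S s ∧ p ∣ (centralizer ({s} : Set S)).index

theorem index_centralizer_mulEquiv {S T : Type*} [Group S] [Group T] (e : S ≃* T) (s : S) :
    (centralizer ({e s} : Set T)).index = (centralizer ({s} : Set S)).index := by
  have h : centralizer ({s} : Set S) = (centralizer ({e s} : Set T)).comap (e : S →* T) := by
    ext g
    rw [mem_comap, mem_centralizer_singleton_iff, mem_centralizer_singleton_iff]
    constructor
    · intro h
      simpa using congrArg e h
    · intro h
      apply e.injective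
      simpa using h
  rw [h, index_comap_of_surjective _ e.surjective]

theorem RowP.mulEquiv {S T : Type*} [Group S] [Group T] (e : S ≃* T) {p : ℕ} (h : RowP S p) :
    RowP T p := by
  obtain ⟨s, h1, h2⟩ := h
  exact ⟨e s, h1.mulEquiv e, by rwa [index_centralizer_mulEquiv]⟩

/-- The criterion with powers of `p`: `p ^ k` divides the order of `S` and not the order of the
centralizer of the `VZ` element `s`. -/
theorem RowP.of_not_dvd {S : Type*} [Group S] [Finite S] {p : ℕ} (hp : p.Prime) {s : S}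
    (hs : VZ S s) {k : ℕ} (h1 : p ^ k ∣ Nat.card S)
    (h2 : ¬ p ^ k ∣ Nat.card (centralizer ({s} : Set S))) : RowP S p := by
  refine ⟨s, hs, ?_⟩
  by_contra hcon
  apply h2
  rw [← (centralizer ({s} : Set S)).card_mul_index] at h1
  exact (((Nat.Prime.coprime_iff_not_dvd hp).2 hcon).pow_left k).dvd_of_dvd_mul_right h1

/-- The criterion with the order `c` of the centralizer. -/
theorem RowP.of_card {S : Type*} [Group S] [Finite S] {p : ℕ} {s : S} (hs : VZ S s) {c : ℕ}
    (h1 : Nat.card (centralizer ({s} : Set S)) = c) (h2 : c * p ∣ Nat.card S) : RowP S p := by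
  refine ⟨s, hs, ?_⟩
  rw [← (centralizer ({s} : Set S)).card_mul_index, h1] at h2
  have hc : 0 < c := by rw [← h1]; exact Nat.card_pos
  exact Nat.dvd_of_mul_dvd_mul_left hc h2

end Cfsg.Agent.H730
end

-- part: H730/PairRow
section
/-!
# The rows of S4938 (pairs of primes) (helper730)

* `PairRow S` : for all primes `p ≠ q` dividing `#S` some `VZ` element has class size divisible by `p` and `q`.
* `Gen S x` : no automorphism of prime order not dividing `#S` fixes `x`.
* `GRow S` : if `S` has an automorphism of prime order not dividing `#S`, then every prime divisor `p` of `#S`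
  divides the class size of some `VZ` element `x` with `Gen S x`.
* `XRow r S` : if `S` has an automorphism of prime order not dividing `#S`, then there is an element `x` of order
  divisible by `r` with `Gen S x` whose class size is divisible by all prime divisors of `#S`.
* `Gen.of_field`, `Gen.of_hom` : criteria with field automorphisms.
-/

set_option autoImplicit false

namespace Cfsg.Agent.H730.Pair

open Cfsg Cfsg.Agent.H713 Cfsg.Agent.H716.CopRow Subgroup
open scoped Pointwise

universe u v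

/-- pairs of prime divisors of `#S` -/
def PairRow (S : Type*) [Group S] : Prop :=
  ∀ p q : ℕ, p.Prime → q.Prime → p ≠ q → p ∣ Nat.card S → q ∣ Nat.card S →
    ∃ s : S, VZ S s ∧ p ∣ (centralizer ({s} : Set S)).index ∧ q ∣ (centralizer ({s} : Set S)).index

/-- no automorphism of prime order `t ∤ #S` fixes `x` -/
def Gen (S : Type*) [Group S] (x : S) : Prop :=
  ∀ t : ℕ, t.Prime → ¬ t ∣ Nat.card S → ∀ β : MulAut S, orderOf β = t → β x ≠ x

/-- there is an automorphism of prime order not dividing `#S` -/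
def HasCop (S : Type*) [Group S] : Prop :=
  ∃ t : ℕ, t.Prime ∧ ¬ t ∣ Nat.card S ∧ ∃ α : MulAut S, orderOf α = t

/-- generic `VZ` elements with class size divisible by `p` -/
def GRow (S : Type*) [Group S] : Prop :=
  HasCop S → ∀ p : ℕ, p.Prime → p ∣ Nat.card S →
    ∃ x : S, VZ S x ∧ Gen S x ∧ p ∣ (centralizer ({x} : Set S)).index

/-- a generic element of order divisible by `r` with class size divisible by all primes -/
def XRow (r : ℕ) (S : Type*) [Group S] : Prop :=
  HasCop S → ∃ x : S, r ∣ orderOf x ∧ Gen S x ∧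
    ∀ p : ℕ, p.Prime → p ∣ Nat.card S → p ∣ (centralizer ({x} : Set S)).index

section transport

variable {S : Type u} [Group S] {T : Type v} [Group T]

theorem PairRow.mulEquiv (e : S ≃* T) (h : PairRow S) : PairRow T := by
  intro p q hp hq hpq hpT hqT
  rw [← Nat.card_congr e.toEquiv] at hpT hqT
  obtain ⟨s, h1, h2, h3⟩ := h p q hp hq hpq hpT hqT
  exact ⟨e s, h1.mulEquiv e, by rwa [index_centralizer_mulEquiv], by rwa [index_centralizer_mulEquiv]⟩

theorem HasCop.mulEquiv (e : S ≃* T) (h : HasCop S) : HasCop T := by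
  obtain ⟨t, ht, hd, α, hα⟩ := h
  exact ⟨t, ht, by rwa [← Nat.card_congr e.toEquiv], MulAut.congr e α, by rw [MulEquiv.orderOf_eq, hα]⟩

theorem Gen.mulEquiv (e : S ≃* T) {x : S} (h : Gen S x) : Gen T (e x) := by
  intro t ht hd β hβ hx
  rw [← Nat.card_congr e.toEquiv] at hd
  refine h t ht hd ((MulAut.congr e).symm β) (by rw [MulEquiv.orderOf_eq, hβ]) ?_
  show e.symm (β (e x)) = x
  rw [hx, e.symm_apply_apply]

theorem GRow.mulEquiv (e : S ≃* T) (h : GRow S) : GRow T := by
  intro hc p hp hpT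
  rw [← Nat.card_congr e.toEquiv] at hpT
  obtain ⟨x, h1, h2, h3⟩ := h (hc.mulEquiv e.symm) p hp hpT
  exact ⟨e x, h1.mulEquiv e, h2.mulEquiv e, by rwa [index_centralizer_mulEquiv]⟩

theorem XRow.mulEquiv {r : ℕ} (e : S ≃* T) (h : XRow r S) : XRow r T := by
  intro hc
  obtain ⟨x, h1, h2, h3⟩ := h (hc.mulEquiv e.symm)
  refine ⟨e x, by rwa [MulEquiv.orderOf_eq], h2.mulEquiv e, fun p hp hpT => ?_⟩
  rw [index_centralizer_mulEquiv]
  exact h3 p hp (by rwa [Nat.card_congr e.toEquiv])

end transport

section basic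

variable {S : Type u} [Group S]

theorem GRow.of_not (h : ¬ HasCop S) : GRow S := fun h1 => absurd h1 h

theorem Gen.of_zpowers {x e : S} (h : Gen S e) (he : e ∈ zpowers x) : Gen S x := by
  intro t ht hd β hβ hx
  refine h t ht hd β hβ ?_
  obtain ⟨k, rfl⟩ := he
  show β (x ^ k) = x ^ k
  rw [map_zpow, hx]

/-- two commuting elements of coprime orders -/
theorem mem_zpowers_mul {e u : S} (hc : Commute e u) (he : (orderOf e).Coprime (orderOf u)) :
    e ∈ zpowers (e * u) := by
  obtain ⟨m, hm⟩ := Nat.chineseRemainder he 1 0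
  have h3 : (e * u) ^ m = e := by
    rw [hc.mul_pow]
    have h4 : e ^ m = e := by
      conv_rhs => rw [← pow_one e]
      exact pow_eq_pow_iff_modEq.2 hm.1
    have h5 : u ^ m = 1 := by
      rw [← pow_zero u]
      exact pow_eq_pow_iff_modEq.2 hm.2
    rw [h4, h5, mul_one]
  exact ⟨(m : ℤ), by show (e * u) ^ ((m : ℕ) : ℤ) = e; rw [zpow_natCast]; exact h3⟩

theorem Gen.mul {e u : S} (h : Gen S e) (hc : Commute e u) (he : (orderOf e).Coprime (orderOf u)) :
    Gen S (e * u) := h.of_zpowers (mem_zpowers_mul hc he)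

theorem Gen.mov [Finite S] {x : S} (h : Gen S x) {t : ℕ} (ht : t.Prime) (hd : ¬ t ∣ Nat.card S) {α : MulAut S}
    (hα : orderOf α = t) : Mov t α x := by
  have : Fact t.Prime := ⟨ht⟩
  exact Mov.of_forall hα fun β hβ => h t ht hd β hβ

/-- the class size of the product is divisible by all primes if the centralizer is small -/
theorem dvd_index_of_not_dvd [Finite S] {x : S} {p : ℕ} (hp : p.Prime) {k : ℕ} (h1 : p ^ k ∣ Nat.card S)
    (h2 : ¬ p ^ k ∣ Nat.card (centralizer ({x} : Set S))) : p ∣ (centralizer ({x} : Set S)).index := by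
  by_contra hcon
  apply h2
  rw [← (centralizer ({x} : Set S)).card_mul_index] at h1
  exact (((Nat.Prime.coprime_iff_not_dvd hp).2 hcon).pow_left k).dvd_of_dvd_mul_right h1

end basic

section crit

/-- Every group of automorphisms of order prime to `|K|` is conjugate to a subgroup of `D`. -/
def ConjIn (K : Type*) [Group K] (D : Subgroup (MulAut K)) : Prop :=
  ∀ A : Subgroup (MulAut K), (Nat.card A).Coprime (Nat.card K) →
    ∃ g : MulAut K, A.map (MulAut.conj g).toMonoidHom ≤ D

variable {K : Type*} [Group K]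

theorem ConjIn.of_copIn {σ : MulAut K} (h : H254.CopIn K σ) {D : Subgroup (MulAut K)} (hσ : σ ∈ D) :
    ConjIn K D := by
  intro A hA
  obtain ⟨g, hg⟩ := h A hA
  exact ⟨g, hg.trans (by rwa [zpowers_le])⟩

theorem ConjIn.of_row {ι : Type*} [Fintype ι] [DecidableEq ι] {F : Type*} [Field F]
    {G : Subgroup (Matrix.GeneralLinearGroup ι F)} (R : H967.CopRow.Row G) :
    ConjIn ↥G (H967.CopMat.fieldAut R.stab).range := by
  intro A hA
  obtain ⟨g, σ, h⟩ := R.conj A hA
  refine ⟨g, ?_⟩
  have h1 : A.map (MulAut.conj g).toMonoidHom = MulAut.conj g • A := rfl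
  rw [h1, h, zpowers_le]
  exact ⟨σ, rfl⟩

/-- **Criterion.** `D` normalises `⟨e⟩` and no element of `D` of prime order `t ∤ |K|` fixes `e`. -/
theorem Gen.of_conjIn [Finite K] {D : Subgroup (MulAut K)} (hD : ConjIn K D) {e : K}
    (h1 : ∀ δ ∈ D, δ e ∈ zpowers e)
    (h2 : ∀ t : ℕ, t.Prime → ¬ t ∣ Nat.card K → ∀ δ ∈ D, orderOf δ = t → δ e ≠ e) : Gen K e := by
  classical
  intro t ht hd β hβ he
  have htf : Fact t.Prime := ⟨ht⟩
  have hfin : Finite (MulAut K) := inferInstance
  -- the normaliser of `⟨e⟩`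
  let N : Subgroup (MulAut K) :=
    { carrier := {β | ∀ z, β z ∈ zpowers e ↔ z ∈ zpowers e}
      one_mem' := fun z => Iff.rfl
      mul_mem' := fun {a b} ha hb z => by rw [MulAut.mul_apply, ha, hb]
      inv_mem' := fun {a} ha z => by rw [← ha (a⁻¹ z), MulAut.apply_inv_self] }
  have hN : ∀ γ : MulAut K, γ e ∈ zpowers e → γ ∈ N := by
    intro γ hγ
    have hinj : (zpowers e).map (γ : MulAut K).toMonoidHom = zpowers e := by
      apply Subgroup.eq_of_le_of_card_ge
      · rw [MonoidHom.map_zpowers, zpowers_le]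
        exact hγ
      · rw [Subgroup.card_map_of_injective γ.injective]
    intro z
    constructor
    · intro h
      rw [← hinj] at h
      obtain ⟨w, hw, e1⟩ := h
      have : w = z := γ.injective e1
      exact this ▸ hw
    · intro h
      rw [← hinj]
      exact ⟨z, h, rfl⟩
  have hDN : D ≤ N := fun δ hδ => hN δ (h1 δ hδ)
  have hβN : β ∈ N := hN β (by rw [he]; exact mem_zpowers e)
  -- a Sylow subgroup of `D` is a Sylow subgroup of `Aut K`
  obtain ⟨Q⟩ := (inferInstance : Nonempty (Sylow t (MulAut K)))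
  obtain ⟨g, hg⟩ := hD Q (by
    obtain ⟨b, hb⟩ := IsPGroup.iff_card.1 Q.2
    rw [hb]
    exact ((Nat.Prime.coprime_iff_not_dvd ht).2 hd).pow_left b)
  have hgN : ((g • Q : Sylow t (MulAut K)) : Subgroup (MulAut K)) ≤ D := by
    rw [Sylow.coe_subgroup_smul]
    exact hg
  have hgN' : ((g • Q : Sylow t (MulAut K)) : Subgroup (MulAut K)) ≤ N := hgN.trans hDN
  -- `β` is conjugate in `N` to an element of it
  have hβp : IsPGroup t (zpowers (⟨β, hβN⟩ : N)) := by
    rw [IsPGroup.iff_card]
    refine ⟨1, ?_⟩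
    rw [Nat.card_zpowers, Subgroup.orderOf_mk, hβ, pow_one]
  obtain ⟨R, hR⟩ := hβp.exists_le_sylow
  obtain ⟨n, hn⟩ := MulAction.exists_smul_eq (N : Type _) R ((g • Q).subtype hgN')
  have h3 : n * ⟨β, hβN⟩ * n⁻¹ ∈ (g • Q).subtype hgN' := by
    rw [← hn]
    exact ⟨_, hR (mem_zpowers _), rfl⟩
  have h4 : (n : MulAut K) * β * (n : MulAut K)⁻¹ ∈ D := hgN h3
  refine h2 t ht hd _ h4 ?_ ?_
  · rw [← hβ]
    exact (SemiconjBy.orderOf_eq (n : MulAut K) (x := β) (y := (n : MulAut K) * β * (n : MulAut K)⁻¹) (by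
      show (n : MulAut K) * β = (n : MulAut K) * β * (n : MulAut K)⁻¹ * n
      group)).symm
  · -- `n⁻¹ e ∈ ⟨e⟩` is fixed by `β`
    have h5 : (n : MulAut K)⁻¹ e ∈ zpowers e := ((N.inv_mem n.2) e).2 (mem_zpowers e)
    obtain ⟨k, hk⟩ := h5
    have hk' : (n : MulAut K)⁻¹ e = e ^ k := hk.symm
    have h6 : β ((n : MulAut K)⁻¹ e) = (n : MulAut K)⁻¹ e := by rw [hk', map_zpow, he]
    show (n : MulAut K) (β ((n : MulAut K)⁻¹ e)) = e
    rw [h6, MulAut.apply_inv_self]

/-- If a generator `u` of `Fˣ` is moved by `τ` into `u w` with `w ^ c = 1`, the order of `τ` is at most `c`. -/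
theorem orderOf_le {F : Type*} [Field F] [Finite F] {τ : F ≃+* F} {u : Fˣ} (hu : ∀ x : Fˣ, x ∈ zpowers u)
    {c : ℕ} (hc : 0 < c) {w : Fˣ} (hw : w ^ c = 1) (hτ : Units.map (τ : F →* F) u = u * w) : orderOf τ ≤ c := by
  classical
  have hfin : Finite (F ≃+* F) := Finite.of_injective (fun f : F ≃+* F => (f : F → F)) DFunLike.coe_injective
  let m : (F ≃+* F) →* Monoid.End Fˣ :=
    { toFun := fun σ => Units.map (σ : F →* F)
      map_one' := by
        apply MonoidHom.ext
        intro x
        exact Units.ext rfl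
      map_mul' := fun σ ρ => by
        apply MonoidHom.ext
        intro x
        exact Units.ext rfl }
  have hinj : ∀ σ ρ : F ≃+* F, m σ u = m ρ u → σ = ρ := by
    intro σ ρ h
    have h1 : m σ = m ρ := by
      apply MonoidHom.ext
      intro x
      obtain ⟨k, rfl⟩ := mem_zpowers_iff.1 (hu x)
      show Units.map (σ : F →* F) (u ^ k) = Units.map (ρ : F →* F) (u ^ k)
      have h' : Units.map (σ : F →* F) u = Units.map (ρ : F →* F) u := h
      rw [map_zpow, map_zpow, h']
    ext x
    rcases eq_or_ne x 0 with hx | hx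
    · rw [hx, map_zero, map_zero]
    · have := congrArg (fun f : Fˣ →* Fˣ => ((f (Units.mk0 x hx) : Fˣ) : F)) h1
      exact this
  have hk : ∀ k : ℕ, (m (τ ^ k) u * u⁻¹) ^ c = 1 := by
    intro k
    induction k with
    | zero =>
      rw [pow_zero, map_one]
      show (u * u⁻¹) ^ c = 1
      rw [mul_inv_cancel, one_pow]
    | succ k ih =>
      have h1 : m (τ ^ (k + 1)) u = m (τ ^ k) (m τ u) := by
        rw [pow_succ, map_mul]
        rfl
      have h2 : m τ u = u * w := hτ
      rw [h1, h2, map_mul]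
      have h3 : m (τ ^ k) u * m (τ ^ k) w * u⁻¹ = (m (τ ^ k) u * u⁻¹) * m (τ ^ k) w := by
        rw [mul_assoc, mul_comm (m (τ ^ k) w), ← mul_assoc]
      rw [h3, mul_pow, ih, one_mul, ← map_pow, hw, map_one]
  let f : Fin (orderOf τ) → rootsOfUnity c F := fun k => ⟨m (τ ^ (k : ℕ)) u * u⁻¹, by
    rw [mem_rootsOfUnity]
    exact hk k⟩
  have hf : Function.Injective f := by
    intro a b hab
    have h1 : m (τ ^ (a : ℕ)) u * u⁻¹ = m (τ ^ (b : ℕ)) u * u⁻¹ := congrArg Subtype.val hab
    have h2 := hinj _ _ (mul_right_cancel h1)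
    exact Fin.ext (pow_injOn_Iio_orderOf a.2 b.2 h2)
  have : NeZero c := ⟨hc.ne'⟩
  have h1 : Nat.card (Fin (orderOf τ)) ≤ Nat.card (rootsOfUnity c F) := Nat.card_le_card_of_injective f hf
  rw [Nat.card_eq_fintype_card, Fintype.card_fin] at h1
  exact h1.trans (card_rootsOfUnity F c)

/-- **Criterion with a torus `h : Fˣ →* K`** on which the automorphisms of `D` act through field automorphisms; `u` a
generator of `Fˣ`. -/
theorem Gen.of_hom [Finite K] {F : Type*} [Field F] [Finite F] (φ : (F ≃+* F) →* MulAut K)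
    (hD : ConjIn K φ.range) (h : Fˣ →* K)
    (hφ : ∀ (τ : F ≃+* F) (u : Fˣ), φ τ (h u) = h (Units.map (τ : F →* F) u))
    {c : ℕ} (hc : 0 < c) (hker : ∀ u : Fˣ, h u = 1 → u ^ c = 1)
    (hcp : ∀ p : ℕ, p.Prime → p ≤ c → p ∣ Nat.card K) {u : Fˣ} (hu : ∀ x : Fˣ, x ∈ zpowers u) : Gen K (h u) := by
  have hfin : Finite (F ≃+* F) := Finite.of_injective (fun f : F ≃+* F => (f : F → F)) DFunLike.coe_injective
  have hz : ∀ τ : F ≃+* F, ∃ m : ℤ, Units.map (τ : F →* F) u = u ^ m := fun τ => by
    obtain ⟨m, hm⟩ := hu (Units.map (τ : F →* F) u)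
    exact ⟨m, hm.symm⟩
  refine Gen.of_conjIn hD ?_ ?_
  · rintro _ ⟨τ, rfl⟩
    obtain ⟨m, hm⟩ := hz τ
    rw [hφ, hm, map_zpow]
    exact zpow_mem (mem_zpowers _) _
  · rintro t ht hd _ ⟨τ, rfl⟩ ho h5
    obtain ⟨m, hm⟩ := hz τ
    rw [hφ, hm, map_zpow] at h5
    have h7 : h (u ^ (m - 1)) = 1 := by rw [map_zpow, zpow_sub_one, h5, mul_inv_cancel]
    have h8 := hker _ h7
    have h9 : Units.map (τ : F →* F) u = u * u ^ (m - 1) := by
      rw [hm, zpow_sub_one, mul_comm, inv_mul_cancel_right]
    have h10 := orderOf_le hu hc h8 h9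
    apply hd
    apply hcp t ht
    have h12 : t ∣ orderOf τ := by
      rw [← ho]
      exact orderOf_map_dvd φ τ
    exact (Nat.le_of_dvd (orderOf_pos τ) h12).trans h10

end crit

end Cfsg.Agent.H730.Pair
end
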