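import Cfsg.Agent.H716.VanRed
import Cfsg.Agent.H730.PairRow
import Cfsg.Agent.H620.Solv
import Cfsg.Agent.SignalizersComponents.CentSylowFStar
import Cfsg.Agent.Transfer.NormalPComplement
import Cfsg.Agent.Transfer.PNilpotentBasic
import Cfsg.Agent.LieRecognition.FT61.O3
import Cfsg.Agent.S0144
import Cfsg.Prelude.Def_Solvable
import Cfsg.Agent.FastGrp
import Cfsg.Agent.Prune
set_option linter.all false
prune_inst 0x7f00000000000000000000000000000000000000000000000000000000000000000000000000000000000000000000000000000000000000000000000000000000000000000000000000000000000000003fffffffffffffffffffffffffffbeffbdffffffff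
open scoped Cfsg.Agent.FastGrp

-- part: H730/Col
section
/-!
# Colourings moved by elements of two prime orders (helper730)

* `Good p Δ col` : the colour classes meeting `Δ` lie in `Δ` and have fewer than `p` elements;
* `exists_col` : a colouring with four colours which is good for two sets `Δ`, `Δ'` of at most `p ≠ q` points;
* `dvd_of_good` : the stabiliser of such a colouring has index divisible by `p`, if `Δ` is moved by a `p`-element.
-/

set_option autoImplicit false

namespace Cfsg.Agent.H730.Col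

open Subgroup Cfsg.Agent.H716.VanRed

section comb

variable {Ω : Type*} [Fintype Ω] [DecidableEq Ω]

/-- the colour classes meeting `Δ` lie in `Δ` and have fewer than `p` elements -/
def Good (p : ℕ) (Δ : Finset Ω) (col : Ω → Fin 4) : Prop :=
  ∀ j ∈ Δ, (∀ k, col k = col j → k ∈ Δ) ∧ (Finset.univ.filter fun k => col k = col j).card < p

/-- the colouring with classes `R`, `Y`, `Z` and the rest -/
def mk (R Y Z : Finset Ω) (j : Ω) : Fin 4 := if j ∈ R then 0 else if j ∈ Y then 1 else if j ∈ Z then 2 else 3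

variable {R Y Z Δ Δ' : Finset Ω} {p q : ℕ}

theorem mk_eq_zero {k : Ω} : mk R Y Z k = 0 ↔ k ∈ R := by
  unfold mk
  split_ifs <;> simp_all

theorem mk_eq_one (hRY : Disjoint R Y) {k : Ω} : mk R Y Z k = 1 ↔ k ∈ Y := by
  unfold mk
  have h := Finset.disjoint_left.1 hRY
  split_ifs with h1 h2 h3
  · simp only [iff_false, Fin.reduceEq, false_iff]
    exact h h1
  · simp [h2]
  · simp [h2]
  · simp [h2]

theorem mk_eq_two (hRZ : Disjoint R Z) (hYZ : Disjoint Y Z) {k : Ω} : mk R Y Z k = 2 ↔ k ∈ Z := by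
  unfold mk
  have h := Finset.disjoint_left.1 hRZ
  have h' := Finset.disjoint_left.1 hYZ
  split_ifs with h1 h2 h3
  · simp only [Fin.reduceEq, false_iff]
    exact h h1
  · simp only [Fin.reduceEq, false_iff]
    exact h' h2
  · simp [h3]
  · simp [h3]

theorem good_mk (hRY : Disjoint R Y) (hRZ : Disjoint R Z) (hYZ : Disjoint Y Z) (hΔ : Δ ⊆ R ∪ Y ∪ Z)
    (hR : (R ⊆ Δ ∧ R.card < p) ∨ Disjoint R Δ) (hY : (Y ⊆ Δ ∧ Y.card < p) ∨ Disjoint Y Δ)
    (hZ : (Z ⊆ Δ ∧ Z.card < p) ∨ Disjoint Z Δ) : Good p Δ (mk R Y Z) := by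
  have key : ∀ (A : Finset Ω) (c : Fin 4), (∀ k, mk R Y Z k = c ↔ k ∈ A) →
      ((A ⊆ Δ ∧ A.card < p) ∨ Disjoint A Δ) → ∀ j ∈ Δ, j ∈ A → (∀ k, mk R Y Z k = mk R Y Z j → k ∈ Δ) ∧
        (Finset.univ.filter fun k => mk R Y Z k = mk R Y Z j).card < p := by
    intro A c hc hA j hj hjA
    have h1 := (hc j).2 hjA
    have h2 : A ⊆ Δ ∧ A.card < p := hA.resolve_right fun h => Finset.disjoint_left.1 h hjA hj
    have h3 : (Finset.univ.filter fun k => mk R Y Z k = mk R Y Z j) = A := by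
      ext k
      rw [Finset.mem_filter, h1, hc]
      simp
    rw [h3]
    refine ⟨fun k hk => ?_, h2.2⟩
    rw [h1, hc] at hk
    exact h2.1 hk
  intro j hj
  have h0 := hΔ hj
  rw [Finset.mem_union, Finset.mem_union] at h0
  rcases h0 with (h0 | h0) | h0
  · exact key R 0 (fun k => mk_eq_zero) hR j hj h0
  · exact key Y 1 (fun k => mk_eq_one hRY) hY j hj h0
  · exact key Z 2 (fun k => mk_eq_two hRZ hYZ) hZ j hj h0

theorem exists_col_aux (hp : 1 < p) (hq : 1 < q) (hpq : p ≠ q) (h1 : Δ.card ≤ p) (h2 : Δ'.card ≤ q) {x : Ω}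
    (hx : x ∈ Δ) (hx' : x ∈ Δ') (hI : p ≤ (Δ ∩ Δ').card) :
    ∃ col : Ω → Fin 4, col x = 0 ∧ Good p Δ col ∧ Good q Δ' col := by
  have h3 : Δ ∩ Δ' = Δ := Finset.eq_of_subset_of_card_le Finset.inter_subset_left (h1.trans hI)
  have h4 : Δ ⊆ Δ' := Finset.inter_eq_left.1 h3
  have h5 : p ≤ q := by
    rw [h3] at hI
    exact (hI.trans (Finset.card_le_card h4)).trans h2
  have h6 : p < q := lt_of_le_of_ne h5 hpq
  have hpos : 0 < Δ.card := Finset.card_pos.2 ⟨x, hx⟩
  have hcE : (Δ.erase x).card < p := by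
    rw [Finset.card_erase_of_mem hx]
    omega
  have hd1 : Disjoint ({x} : Finset Ω) (Δ.erase x) := by
    rw [Finset.disjoint_singleton_left]
    simp
  have hd2 : Disjoint ({x} : Finset Ω) (Δ' \ Δ) := by
    rw [Finset.disjoint_singleton_left]
    simp [hx]
  have hd3 : Disjoint (Δ.erase x) (Δ' \ Δ) :=
    Finset.disjoint_left.2 fun k hk hk' => (Finset.mem_sdiff.1 hk').2 (Finset.mem_of_mem_erase hk)
  refine ⟨mk {x} (Δ.erase x) (Δ' \ Δ), mk_eq_zero.2 (Finset.mem_singleton_self x), ?_, ?_⟩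
  · refine good_mk hd1 hd2 hd3 ?_ (Or.inl ⟨by simpa using hx, by rw [Finset.card_singleton]; exact hp⟩)
      (Or.inl ⟨Finset.erase_subset _ _, hcE⟩) (Or.inr Finset.sdiff_disjoint)
    intro k hk
    by_cases hkx : k = x
    · simp [hkx]
    · simp [hkx, hk]
  · refine good_mk hd1 hd2 hd3 ?_ (Or.inl ⟨by simpa using hx', by rw [Finset.card_singleton]; exact hq⟩)
      (Or.inl ⟨(Finset.erase_subset _ _).trans h4, hcE.trans h6⟩) (Or.inl ⟨Finset.sdiff_subset, ?_⟩)
    · intro k hk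
      by_cases hkΔ : k ∈ Δ
      · by_cases hkx : k = x
        · simp [hkx]
        · simp [hkx, hkΔ]
      · simp [hk, hkΔ]
    · have h7 : (Δ' \ Δ).card < Δ'.card := by
        apply Finset.card_lt_card
        refine ⟨Finset.sdiff_subset, fun h => ?_⟩
        exact (Finset.mem_sdiff.1 (h hx')).2 hx
      exact h7.trans_le h2

/-- **A colouring for two primes.** -/
theorem exists_col (hp : 1 < p) (hq : 1 < q) (hpq : p ≠ q) (h1 : Δ.card ≤ p) (h2 : Δ'.card ≤ q) {x : Ω}
    (hx : x ∈ Δ) (hx' : x ∈ Δ') : ∃ col : Ω → Fin 4, col x = 0 ∧ Good p Δ col ∧ Good q Δ' col := by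
  rcases Nat.lt_or_ge (Δ ∩ Δ').card p with h3 | h3
  · rcases Nat.lt_or_ge (Δ ∩ Δ').card q with h4 | h4
    · have hd1 : Disjoint (Δ ∩ Δ') (Δ \ Δ') :=
        Finset.disjoint_left.2 fun k hk hk' => (Finset.mem_sdiff.1 hk').2 (Finset.mem_inter.1 hk).2
      have hd2 : Disjoint (Δ ∩ Δ') (Δ' \ Δ) :=
        Finset.disjoint_left.2 fun k hk hk' => (Finset.mem_sdiff.1 hk').2 (Finset.mem_inter.1 hk).1
      have hd3 : Disjoint (Δ \ Δ') (Δ' \ Δ) :=
        Finset.disjoint_left.2 fun k hk hk' => (Finset.mem_sdiff.1 hk').2 (Finset.mem_sdiff.1 hk).1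
      refine ⟨mk (Δ ∩ Δ') (Δ \ Δ') (Δ' \ Δ), mk_eq_zero.2 (Finset.mem_inter.2 ⟨hx, hx'⟩), ?_, ?_⟩
      · refine good_mk hd1 hd2 hd3 ?_ (Or.inl ⟨Finset.inter_subset_left, h3⟩) (Or.inl ⟨Finset.sdiff_subset, ?_⟩)
          (Or.inr Finset.sdiff_disjoint)
        · intro k hk
          by_cases hk' : k ∈ Δ' <;> simp [hk, hk']
        · have h7 : (Δ \ Δ').card < Δ.card := by
            apply Finset.card_lt_card
            refine ⟨Finset.sdiff_subset, fun h => ?_⟩
            exact (Finset.mem_sdiff.1 (h hx)).2 hx'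
          exact h7.trans_le h1
      · refine good_mk hd1 hd2 hd3 ?_ (Or.inl ⟨Finset.inter_subset_right, h4⟩) (Or.inr Finset.sdiff_disjoint)
          (Or.inl ⟨Finset.sdiff_subset, ?_⟩)
        · intro k hk
          by_cases hk' : k ∈ Δ <;> simp [hk, hk']
        · have h7 : (Δ' \ Δ).card < Δ'.card := by
            apply Finset.card_lt_card
            refine ⟨Finset.sdiff_subset, fun h => ?_⟩
            exact (Finset.mem_sdiff.1 (h hx')).2 hx
          exact h7.trans_le h2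
    · obtain ⟨col, h5, h6, h7⟩ := exists_col_aux hq hp hpq.symm h2 h1 hx' hx (by rwa [Finset.inter_comm])
      exact ⟨col, h5, h7, h6⟩
  · exact exists_col_aux hp hq hpq h1 h2 hx hx' h3

end comb

section act

variable {G : Type*} [Group G] {Ω : Type*} [Fintype Ω] [DecidableEq Ω] [MulAction G Ω] {p : ℕ}

/-- a `p`-group preserving a good colouring fixes `Δ` pointwise -/
theorem fix_of_good [hp : Fact p.Prime] {Q : Subgroup G} (hQ : IsPGroup p Q) {col : Ω → Fin 4}
    (hcol : ∀ h ∈ Q, ∀ j : Ω, col (h • j) = col j) {Δ : Finset Ω} (hg : Good p Δ col) :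
    ∀ h ∈ Q, ∀ j ∈ Δ, h • j = j := by
  intro h hh j hj
  obtain ⟨b, hb⟩ := hQ.card_orbit j
  have h1 : (MulAction.orbit Q j) ⊆ ((Finset.univ.filter fun k => col k = col j : Finset Ω) : Set Ω) := by
    rintro _ ⟨h', rfl⟩
    simp only [Finset.coe_filter, Finset.mem_univ, true_and, Set.mem_setOf_eq]
    exact hcol h' h'.2 j
  have h2 : Nat.card (MulAction.orbit Q j) ≤ (Finset.univ.filter fun k => col k = col j).card := by
    rw [← Set.ncard_coe_finset, ← Nat.card_coe_set_eq]
    exact Nat.card_mono (Set.toFinite _) h1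
  rw [hb] at h2
  have h3 : b = 0 := by
    by_contra hb0
    have h4 : p ^ 1 ≤ p ^ b := Nat.pow_le_pow_right hp.1.pos (Nat.one_le_iff_ne_zero.2 hb0)
    have h5 := (hg j hj).2
    rw [pow_one] at h4
    omega
  rw [h3, pow_zero] at hb
  have h4 : Subsingleton (MulAction.orbit Q j) := (Nat.card_eq_one_iff_unique.1 hb).1
  have h5 := h4.elim ⟨(⟨h, hh⟩ : Q) • j, ⟨_, rfl⟩⟩ ⟨j, MulAction.mem_orbit_self _⟩
  exact congrArg Subtype.val h5

/-- **The stabiliser of a good colouring has index divisible by `p`.** -/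
theorem dvd_of_good [Finite G] [hp : Fact p.Prime] {H : Subgroup G} {col : Ω → Fin 4}
    (hcol : ∀ h ∈ H, ∀ j : Ω, col (h • j) = col j) {Δ : Finset Ω} (hg : Good p Δ col)
    {g : G} {k : ℕ} (hk : g ^ p ^ k = 1) {x : Ω} (hx : x ∈ Δ) (hgx : g • x ≠ x)
    (hgΔ : ∀ j ∈ Δ, g • j ∈ Δ) (hgΔ' : ∀ j ∈ Δ, g⁻¹ • j ∈ Δ) : p ∣ H.index := by
  by_contra hcon
  obtain ⟨Q, hQ⟩ := exists_sylow_le hcon
  have hfix := fix_of_good Q.2 (fun h hh j => hcol h (hQ hh) j) hg
  let F : Subgroup G := fixingSubgroup G (Δ : Set Ω)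
  have hF : ∀ h, h ∈ F ↔ ∀ j ∈ Δ, h • j = j := by
    intro h
    rw [mem_fixingSubgroup_iff]
    rfl
  have hQF : (Q : Subgroup G) ≤ F := fun h hh => (hF h).2 (hfix h hh)
  apply not_dvd_index_of_le Q hQF
  refine dvd_index_of_normalizes (g := g) (k := k) (by rw [hk]; exact one_mem _) ?_ ?_
  · intro h hh
    rw [hF] at hh ⊢
    intro j hj
    rw [mul_smul, mul_smul, hh _ (hgΔ' j hj), smul_inv_smul]
  · intro h
    exact hgx ((hF g).1 h x hx)

/-- an orbit of length `p` through `x` -/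
theorem exists_cycle [Finite G] [hp : Fact p.Prime] (htr : ∀ i j : Ω, ∃ a : G, a • i = j)
    (h : ∃ (g : G) (k : ℕ) (i : Ω), g ^ p ^ k = 1 ∧ g • i ≠ i) (x : Ω) :
    ∃ (g : G) (k : ℕ) (Δ : Finset Ω), g ^ p ^ k = 1 ∧ x ∈ Δ ∧ Δ.card ≤ p ∧ g • x ≠ x ∧ (∀ j ∈ Δ, g • j ∈ Δ) ∧
      ∀ j ∈ Δ, g⁻¹ • j ∈ Δ := by
  classical
  obtain ⟨g, k, i, hk, hgi⟩ := h
  -- reduction to an element acting with order `p`
  obtain ⟨g, i, hk, hgi, hgp⟩ : ∃ (g : G) (i : Ω), g ^ p ^ k = 1 ∧ g • i ≠ i ∧ ∀ j : Ω, g ^ p • j = j := by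
    set! φ := MulAction.toPermHom G Ω with hφ
    have h1 : φ g ≠ 1 := by
      intro h
      exact hgi (congrArg (fun f : Equiv.Perm Ω => f i) h)
    have h2 : φ g ^ p ^ k = 1 := by rw [← map_pow, hk, map_one]
    obtain ⟨j, -, hj⟩ := (Nat.dvd_prime_pow hp.1).1 (orderOf_dvd_of_pow_eq_one h2)
    have hj0 : j ≠ 0 := by
      rintro rfl
      rw [pow_zero, orderOf_eq_one_iff] at hj
      exact h1 hj
    obtain ⟨l, rfl⟩ := Nat.exists_eq_succ_of_ne_zero hj0
    have h3 : orderOf (φ (g ^ p ^ l)) = p := by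
      rw [map_pow, orderOf_pow_of_dvd (pow_ne_zero _ hp.1.ne_zero) (by rw [hj]; exact pow_dvd_pow _ (Nat.le_succ l)),
        hj, Nat.succ_eq_add_one, pow_succ, Nat.mul_div_cancel_left _ (pow_pos hp.1.pos _)]
    have h4 : φ (g ^ p ^ l) ≠ 1 := by
      intro h
      rw [h, orderOf_one] at h3
      exact hp.1.one_lt.ne h3
    obtain ⟨i1, hi1⟩ : ∃ i1, φ (g ^ p ^ l) i1 ≠ i1 := by
      by_contra hcon
      push Not at hcon
      exact h4 (Equiv.ext hcon)
    refine ⟨g ^ p ^ l, i1, ?_, hi1, fun j => ?_⟩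
    · rw [← pow_mul, mul_comm, pow_mul, hk, one_pow]
    · have h5 : φ ((g ^ p ^ l) ^ p) = 1 := by
        rw [map_pow]
        exact orderOf_dvd_iff_pow_eq_one.1 (by rw [h3])
      exact congrArg (fun f : Equiv.Perm Ω => f j) h5
  -- move to `x`
  obtain ⟨a, ha⟩ := htr i x
  obtain ⟨g, hk, hgx, hgp⟩ : ∃ g : G, g ^ p ^ k = 1 ∧ g • x ≠ x ∧ ∀ j : Ω, g ^ p • j = j := by
    refine ⟨a * g * a⁻¹, ?_, ?_, fun j => ?_⟩
    · rw [conj_pow, hk, mul_one, mul_inv_cancel]
    · rw [mul_smul, mul_smul, ← ha, inv_smul_smul]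
      intro h
      exact hgi (smul_left_cancel a h)
    · rw [conj_pow, mul_smul, mul_smul, hgp, smul_inv_smul]
  set! Δ : Finset Ω := (Finset.range p).image fun l => g ^ l • x with hΔ
  have hcard : Δ.card ≤ p := Finset.card_image_le.trans (by rw [Finset.card_range])
  have hxΔ : x ∈ Δ := by
    rw [hΔ, Finset.mem_image]
    exact ⟨0, Finset.mem_range.2 hp.1.pos, by rw [pow_zero, one_smul]⟩
  have hgΔ : ∀ j ∈ Δ, g • j ∈ Δ := by
    intro j hj
    rw [hΔ, Finset.mem_image] at hj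
    obtain ⟨l, hl, rfl⟩ := hj
    rw [Finset.mem_range] at hl
    rw [smul_smul, ← pow_succ']
    rcases Nat.lt_or_ge (l + 1) p with h | h
    · rw [hΔ, Finset.mem_image]
      exact ⟨l + 1, Finset.mem_range.2 h, rfl⟩
    · have : l + 1 = p := by omega
      rw [this, hgp]
      exact hxΔ
  refine ⟨g, k, Δ, hk, hxΔ, hcard, hgx, hgΔ, ?_⟩
  have h1 : Δ.image (fun j => g • j) = Δ := by
    apply Finset.eq_of_subset_of_card_le
    · intro y hy
      rw [Finset.mem_image] at hy
      obtain ⟨j, hj, rfl⟩ := hy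
      exact hgΔ j hj
    · rw [Finset.card_image_of_injective _ (MulAction.injective g)]
  intro j hj
  rw [← h1, Finset.mem_image] at hj
  obtain ⟨l, hl, rfl⟩ := hj
  rwa [inv_smul_smul]

end act

end Cfsg.Agent.H730.Col
end

-- part: H730/Red
section
/-!
# Reduction of S5008 to simple groups (helper730)

`HypP p G` : `p` divides the class size of no vanishing element of `G`.  If every non-abelian
simple group `S` of order divisible by `p` has `RowP S p`, then a finite group with `HypP p G` has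
a normal `p`-complement and abelian Sylow `p`-subgroups.
-/

set_option autoImplicit false
set_option linter.dupNamespace false

namespace Cfsg.Agent.H730

open Cfsg Cfsg.Agent.H713 Subgroup Cfsg.Agent.H690.Van Cfsg.Agent.Characters

universe u v

/-- `p` divides the class size of no vanishing element. -/
def HypP (p : ℕ) (G : Type*) [Group G] : Prop :=
  ∀ x : G, Van G x → ¬ p ∣ (centralizer ({x} : Set G)).index

theorem index_centralizer_map_dvd {G H : Type*} [Group G] [Group H] (f : G →* H)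
    (hf : Function.Surjective f) (x : G) :
    (centralizer ({f x} : Set H)).index ∣ (centralizer ({x} : Set G)).index := by
  have h1 : (centralizer ({x} : Set G)).map f ≤ centralizer ({f x} : Set H) := by
    rintro _ ⟨g, hg, rfl⟩
    have hg' := mem_centralizer_singleton_iff.1 hg
    rw [mem_centralizer_singleton_iff, ← map_mul, ← map_mul, hg']
  exact (index_dvd_of_le h1).trans (index_map_dvd _ hf)

theorem HypP.of_surjective {p : ℕ} {G H : Type*} [Group G] [Group H] (f : G →* H)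
    (hf : Function.Surjective f) (h : HypP p G) : HypP p H := by
  intro y hy
  obtain ⟨x, rfl⟩ := hf y
  exact fun hd => h x (hy.of_surjective f hf) (hd.trans (index_centralizer_map_dvd f hf x))

/-- The class size in a normal subgroup. -/
theorem index_centralizer_dvd {G : Type*} [Group G] [Finite G] (N : Subgroup G) [N.Normal]
    (x : N) : (centralizer ({x} : Set N)).index ∣ (centralizer ({(x : G)} : Set G)).index := by
  have h : centralizer ({x} : Set N) = (centralizer ({(x : G)} : Set G)).subgroupOf N := by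
    ext g
    rw [mem_subgroupOf, mem_centralizer_singleton_iff, mem_centralizer_singleton_iff]
    exact Subtype.ext_iff
  rw [h]
  exact Cfsg.Agent.Lib.GoldschmidtFusion.relIndex_dvd_index_of_normal_right _ _

end Cfsg.Agent.H730
end

-- part: H730/PairCrd
section
/-!
# Reduction of S4938 to simple groups: the coordinates of a minimal normal subgroup (helper730)
-/

set_option autoImplicit false
set_option linter.unusedSectionVars false

namespace Cfsg.Agent.H730.PairCrd

open Cfsg Cfsg.Agent.H713 Cfsg.Agent.H716.VanRed Cfsg.Agent.H730 Cfsg.Agent.H730.Pair Cfsg.Agent.H730.Col Subgroup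

universe u

/-- Burnside: two primes different from a given number. -/
theorem exists_two_primes {S : Type*} [Group S] [Finite S] [IsSimpleGroup S] (h : ∃ a b : S, a * b ≠ b * a)
    (c : ℕ) : ∃ r r' : ℕ, r.Prime ∧ r'.Prime ∧ r ≠ r' ∧ r ∣ Nat.card S ∧ r' ∣ Nat.card S ∧ r ≠ c ∧ r' ≠ c := by
  obtain ⟨r, hr, hrd, hrc⟩ := exists_prime_ne h c
  by_contra hcon
  push Not at hcon
  have hall : ∀ r' : ℕ, r'.Prime → r' ∣ Nat.card S → r' = r ∨ r' = c := by
    intro r' hr' hd
    by_contra h1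
    push Not at h1
    exact h1.2 (hcon r r' hr hr' (Ne.symm h1.1) hrd hd hrc)
  have hn0 : Nat.card S ≠ 0 := Nat.card_pos.ne'
  have hfac : Nat.card S = r ^ (Nat.card S).factorization r * c ^ (Nat.card S).factorization c := by
    conv_lhs => rw [← Nat.prod_factorization_pow_eq_self hn0]
    rw [Finsupp.prod, ← Finset.prod_pair (f := fun s => s ^ (Nat.card S).factorization s) hrc]
    refine Finset.prod_subset ?_ ?_
    · intro s hs
      rw [Nat.support_factorization, Nat.mem_primeFactors] at hs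
      rcases hall s hs.1 hs.2.1 with rfl | rfl <;> simp
    · intro s _ hs
      rw [Finsupp.notMem_support_iff] at hs
      rw [hs, pow_zero]
  have hsol : Group.IsSolvable S := by
    by_cases hc : c.Prime
    · exact Cfsg.Agent.S0144.result r c _ _ hr hc hfac
    · rw [Nat.factorization_eq_zero_of_not_prime _ hc, pow_zero, mul_one] at hfac
      exact Cfsg.Agent.S0144.result r r ((Nat.card S).factorization r) 0 hr hr (by rw [pow_zero, mul_one]; exact hfac)
  obtain ⟨a, b, hab⟩ := h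
  exact hab (IsSimpleGroup.comm_iff_isSolvable.2 hsol a b)

theorem injective_four {s r1 r2 : ℕ} (h1 : 1 < r1) (h2 : 1 < r2) (h12 : r1 ≠ r2) (h1s : r1 ≠ s) (h2s : r2 ≠ s)
    (hs1 : s ≠ 1) : Function.Injective (![s, r1, r2, 1] : Fin 4 → ℕ) := by
  intro a b hab
  fin_cases a <;> fin_cases b <;> first | rfl | (exfalso; simp at hab; (clear * - h1 h1s h2s hs1 hab h2 h12; omega))

section crd

variable {G : Type u} [Group G] [Finite G] {m : ℕ} {N : Subgroup G} [N.Normal] {T : Fin m → Subgroup G}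
  {e : N ≃* (∀ i, T i)}

/-- the class size of a coordinate divides the class size -/
theorem index_coord_dvd (e : N ≃* (∀ i, T i)) (n : N) (i : Fin m) :
    (centralizer ({e n i} : Set (T i))).index ∣ (centralizer ({(n : G)} : Set G)).index := by
  have h1 := index_centralizer_map_dvd ((Pi.evalMonoidHom (fun i => T i) i).comp e.toMonoidHom)
    (fun t => ⟨e.symm (Pi.mulSingle i t), by
      show e (e.symm (Pi.mulSingle i t)) i = t
      rw [e.apply_symm_apply, Pi.mulSingle_eq_same]⟩) n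
  exact h1.trans (index_centralizer_dvd N n)

/-- an element of `N` with coordinate `s` at `x` and prescribed colours -/
theorem exists_colored (C : Crd N T e) {x : Fin m} (s : T x) (hs : s ≠ 1) (col : Fin m → Fin 4) (hx : col x = 0) :
    ∃ n : N, e n x = s ∧ ∀ i j, orderOf (e n i) = orderOf (e n j) → col i = col j := by
  classical
  have hsimple := C.simple x
  obtain ⟨r1, r2, h1, h2, h12, hd1, hd2, h1s, h2s⟩ := exists_two_primes (C.na x) (orderOf s)
  have hs1 : orderOf s ≠ 1 := fun h => hs (orderOf_eq_one_iff.1 h)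
  let ord : Fin 4 → ℕ := ![orderOf s, r1, r2, 1]
  have hinj : Function.Injective ord := injective_four h1.one_lt h2.one_lt h12 h1s h2s hs1
  have ht : ∀ j, ∃ t : T j, orderOf t = ord (col j) := by
    intro j
    obtain ⟨a, ha⟩ := C.trans x j
    have hcardj : Nat.card (T j) = Nat.card (T x) := (Nat.card_congr (conjIso a ha).toEquiv).symm
    have f1 : Fact r1.Prime := ⟨h1⟩
    have f2 : Fact r2.Prime := ⟨h2⟩
    rcases h : col j with ⟨k, hk⟩
    rcases k with _ | _ | _ | _ | k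
    · exact ⟨conjIso a ha s, by rw [MulEquiv.orderOf_eq]; rfl⟩
    · exact exists_prime_orderOf_dvd_card' r1 (by rwa [hcardj])
    · exact exists_prime_orderOf_dvd_card' r2 (by rwa [hcardj])
    · exact ⟨1, orderOf_one⟩
    · omega
  choose t ht using ht
  refine ⟨e.symm (Function.update t x s), by rw [e.apply_symm_apply, Function.update_self], ?_⟩
  have ho : ∀ j, orderOf (e (e.symm (Function.update t x s)) j) = ord (col j) := by
    intro j
    rw [e.apply_symm_apply]
    rcases eq_or_ne j x with rfl | hj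
    · rw [Function.update_self, hx]; rfl
    · rw [Function.update_of_ne hj, ht]
  intro i j hij
  rw [ho, ho] at hij
  exact hinj hij

/-- elements centralising the factors centralise `N` -/
theorem mem_centralizer_of_forall (C : Crd N T e) {u : G} (h1 : ∀ i, u ∈ centralizer (T i : Set G)) :
    u ∈ centralizer (N : Set G) := by
  rw [Subgroup.mem_centralizer_iff]
  intro x hx
  have h2 : MulAut.conjNormal u (⟨x, hx⟩ : N) = ⟨x, hx⟩ := by
    apply e.injective
    funext i
    have h3 : (T i).map (MulAut.conj u).toMonoidHom = T i := by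
      ext y
      constructor
      · rintro ⟨z, hz, rfl⟩
        show u * z * u⁻¹ ∈ T i
        rw [← Subgroup.mem_centralizer_iff.1 (h1 i) z hz, mul_inv_cancel_right]
        exact hz
      · intro hy
        refine ⟨y, hy, ?_⟩
        show u * y * u⁻¹ = y
        rw [← Subgroup.mem_centralizer_iff.1 (h1 i) y hy, mul_inv_cancel_right]
    apply Subtype.ext
    rw [coord_conj e C.le C.sgl C.coord u i i h3.symm, ← Subgroup.mem_centralizer_iff.1 (h1 i) _ (e ⟨x, hx⟩ i).2,
      mul_inv_cancel_right]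
  have h3 : u * x * u⁻¹ = x := congrArg Subtype.val h2
  exact (mul_inv_eq_iff_eq_mul.1 h3).symm

theorem mem_normalizer_of_map {A : Subgroup G} {u : G} (h : A.map (MulAut.conj u).toMonoidHom = A) :
    u ∈ normalizer (A : Set G) := by
  rw [Subgroup.mem_normalizer_iff]
  intro y
  conv_rhs => rw [← h]
  constructor
  · intro hy
    exact ⟨y, hy, rfl⟩
  · rintro ⟨z, hz, e1⟩
    have : z = y := (MulAut.conj u).injective e1
    exact this ▸ hz

/-- a `p`-element normalising `T x` and centralising `n` centralises `T x`, if the coordinate is generic -/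
theorem mem_centralizer_of_gen (C : Crd N T e) {p : ℕ} [hp : Fact p.Prime] {x : Fin m}
    (hpT : ¬ p ∣ Nat.card (T x)) {n : N} (hgen : Gen (T x) (e n x)) {u : G} {k : ℕ} (hk : u ^ p ^ k = 1)
    (hu : (T x).map (MulAut.conj u).toMonoidHom = T x) (hun : u * n = n * u) : u ∈ centralizer (T x : Set G) := by
  by_contra hgc
  have hgn := mem_normalizer_of_map hu
  set! ρ : normalizer (T x : Set G) →* MulAut (T x) := (T x).normalizerMonoidHom with hρ
  have hρa : ∀ (h : normalizer (T x : Set G)) (z : T x), ((ρ h z : T x) : G) = h * z * (h : G)⁻¹ :=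
    fun h z => rfl
  set! α0 := ρ ⟨u, hgn⟩ with hα0
  have h1 : α0 ≠ 1 := by
    intro h
    apply hgc
    rw [Subgroup.mem_centralizer_iff]
    intro z hz
    have h2 := hρa ⟨u, hgn⟩ ⟨z, hz⟩
    rw [← hα0, h] at h2
    have h3 : z = u * z * u⁻¹ := h2
    exact (eq_mul_inv_iff_mul_eq.1 h3)
  have h2 : α0 ^ p ^ k = 1 := by
    rw [hα0, ← map_pow]
    have : (⟨u, hgn⟩ : normalizer (T x : Set G)) ^ p ^ k = 1 := by
      apply Subtype.ext
      rw [SubmonoidClass.coe_pow, Subgroup.coe_one, hk]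
    rw [this, map_one]
  obtain ⟨j, -, hj⟩ := (Nat.dvd_prime_pow hp.1).1 (orderOf_dvd_of_pow_eq_one h2)
  have hj0 : j ≠ 0 := by
    rintro rfl
    rw [pow_zero, orderOf_eq_one_iff] at hj
    exact h1 hj
  obtain ⟨l, rfl⟩ := Nat.exists_eq_succ_of_ne_zero hj0
  have h3 : orderOf (α0 ^ p ^ l) = p := by
    rw [orderOf_pow_of_dvd (pow_ne_zero _ hp.1.ne_zero) (by rw [hj]; exact pow_dvd_pow _ (Nat.le_succ l)), hj]
    rw [Nat.succ_eq_add_one, pow_succ, Nat.mul_div_cancel_left _ (pow_pos hp.1.pos _)]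
  refine hgen p hp.1 hpT _ h3 ?_
  -- `u` fixes the coordinate
  have h4 : α0 (e n x) = e n x := by
    apply Subtype.ext
    rw [hα0, hρa]
    show u * (e n x : G) * u⁻¹ = e n x
    rw [← coord_conj e C.le C.sgl C.coord u x x hu.symm n]
    have h5 : MulAut.conjNormal u n = n := by
      apply Subtype.ext
      rw [MulAut.conjNormal_apply, hun, mul_inv_cancel_right]
    rw [h5]
  have h5 : ∀ j : ℕ, (α0 ^ j) (e n x) = e n x := by
    intro j
    induction j with
    | zero => rfl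
    | succ j ih => rw [pow_succ, MulAut.mul_apply, h4, ih]
  exact h5 _

/-- **The outer case.** -/
theorem dvd_of_out (C : Crd N T e) {p : ℕ} [hp : Fact p.Prime] (hC : centralizer (N : Set G) = ⊥)
    (hpG : p ∣ Nat.card G) {x : Fin m} (hpT : ¬ p ∣ Nat.card (T x))
    (hfix : ∀ (g : G) (k : ℕ), g ^ p ^ k = 1 → ∀ i, (T i).map (MulAut.conj g).toMonoidHom = T i)
    {n : N} (hgen : Gen (T x) (e n x)) : p ∣ (centralizer ({(n : G)} : Set G)).index := by
  by_contra hcon
  obtain ⟨Q, hQ⟩ := exists_sylow_le hcon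
  have hpel : ∀ (P : Sylow p G) (u : G), u ∈ P → ∃ k, u ^ p ^ k = 1 := by
    intro P u hu
    obtain ⟨k, hk⟩ := P.2 ⟨u, hu⟩
    exact ⟨k, congrArg Subtype.val hk⟩
  -- `Q` centralises `T x`
  have h1 : (Q : Subgroup G) ≤ centralizer (T x : Set G) := by
    intro u hu
    obtain ⟨k, hk⟩ := hpel Q u hu
    exact mem_centralizer_of_gen C hpT hgen hk (hfix u k hk x) (mem_centralizer_singleton_iff.1 (hQ hu))
  -- all Sylow subgroups centralise `T x`
  have hnor : ∀ P : Sylow p G, (P : Subgroup G) ≤ normalizer (T x : Set G) := by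
    intro P u hu
    obtain ⟨k, hk⟩ := hpel P u hu
    exact mem_normalizer_of_map (hfix u k hk x)
  have h2 : ∀ P : Sylow p G, (P : Subgroup G) ≤ centralizer (T x : Set G) := by
    intro P
    obtain ⟨b, hb⟩ := MulAction.exists_smul_eq ↥(normalizer (T x : Set G)) (Q.subtype (hnor Q)) (P.subtype (hnor P))
    intro y hy
    have h3 : (⟨y, hnor P hy⟩ : normalizer (T x : Set G)) ∈ (b • Q.subtype (hnor Q) : Sylow p _) := by
      rw [hb]
      exact hy
    obtain ⟨z, hz, hzy⟩ := h3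
    have hz' : (z : G) ∈ Q := hz
    have hzy' : (b : G) * z * (b : G)⁻¹ = y := congrArg Subtype.val hzy
    rw [← hzy', Subgroup.mem_centralizer_iff]
    intro t ht
    have h4 : (b : G)⁻¹ * t * b ∈ T x := by
      have h5 := (Subgroup.mem_normalizer_iff.1 b.2 ((b : G)⁻¹ * t * b)).2
      apply h5
      have h6 : (b : G) * ((b : G)⁻¹ * t * b) * (b : G)⁻¹ = t := by group
      rw [h6]
      exact ht
    have h5 := Subgroup.mem_centralizer_iff.1 (h1 hz') _ h4
    calc t * ((b : G) * z * (b : G)⁻¹) = b * (((b : G)⁻¹ * t * b) * z) * (b : G)⁻¹ := by group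
      _ = b * (z * ((b : G)⁻¹ * t * b)) * (b : G)⁻¹ := by rw [h5]
      _ = _ := by group
  -- all Sylow subgroups centralise all factors
  have h3 : (Q : Subgroup G) ≤ centralizer (N : Set G) := by
    intro u hu
    refine mem_centralizer_of_forall C fun j => ?_
    obtain ⟨a, ha⟩ := C.trans x j
    have h4 : a⁻¹ * u * a ∈ ((a⁻¹ • Q : Sylow p G) : Subgroup G) := by
      rw [Sylow.coe_subgroup_smul]
      refine ⟨u, hu, ?_⟩
      show a⁻¹ * u * (a⁻¹)⁻¹ = _
      rw [inv_inv]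
    have h5 := Subgroup.mem_centralizer_iff.1 (h2 _ h4)
    rw [Subgroup.mem_centralizer_iff]
    intro t ht
    have ht' : t ∈ T j := ht
    rw [ha] at ht'
    obtain ⟨z, hz, rfl⟩ := ht'
    have h6 := h5 z hz
    show a * z * a⁻¹ * u = u * (a * z * a⁻¹)
    calc a * z * a⁻¹ * u = a * (z * (a⁻¹ * u * a)) * a⁻¹ := by group
      _ = a * ((a⁻¹ * u * a) * z) * a⁻¹ := by rw [h6]
      _ = _ := by group
  rw [hC] at h3
  have h4 := Q.dvd_card_of_dvd_card hpG
  rw [le_bot_iff.1 h3, Subgroup.card_bot] at h4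
  exact hp.1.one_lt.ne' (Nat.dvd_one.1 h4)

/-- in the outer case there is a coprime automorphism of the factors -/
theorem hasCop_of_out (C : Crd N T e) {p : ℕ} [hp : Fact p.Prime] (hC : centralizer (N : Set G) = ⊥)
    (hpG : p ∣ Nat.card G) {x : Fin m} (hpT : ¬ p ∣ Nat.card (T x))
    (hfix : ∀ (g : G) (k : ℕ), g ^ p ^ k = 1 → ∀ i, (T i).map (MulAut.conj g).toMonoidHom = T i) :
    HasCop (T x) := by
  obtain ⟨g, hg⟩ := exists_prime_orderOf_dvd_card' p hpG
  have hg1 : g ∉ centralizer (N : Set G) := by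
    rw [hC, Subgroup.mem_bot]
    rintro rfl
    rw [orderOf_one] at hg
    exact hp.1.one_lt.ne hg
  have hgp : g ^ p ^ 1 = 1 := by rw [pow_one, ← hg, pow_orderOf_eq_one]
  obtain ⟨i, hi⟩ : ∃ i, g ∉ centralizer (T i : Set G) := by
    by_contra hcon
    push Not at hcon
    exact hg1 (mem_centralizer_of_forall C hcon)
  have hgn := mem_normalizer_of_map (hfix g 1 hgp i)
  set! ρ : normalizer (T i : Set G) →* MulAut (T i) := (T i).normalizerMonoidHom with hρ
  have h1 : ρ ⟨g, hgn⟩ ≠ 1 := by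
    intro h
    apply hi
    rw [Subgroup.mem_centralizer_iff]
    intro z hz
    have h3 : ((ρ ⟨g, hgn⟩ ⟨z, hz⟩ : T i) : G) = g * z * g⁻¹ := rfl
    rw [h] at h3
    have h4 : z = g * z * g⁻¹ := h3
    exact (eq_mul_inv_iff_mul_eq.1 h4)
  have h2 : ρ ⟨g, hgn⟩ ^ p = 1 := by
    rw [← map_pow]
    have : (⟨g, hgn⟩ : normalizer (T i : Set G)) ^ p = 1 := by
      apply Subtype.ext
      rw [SubmonoidClass.coe_pow, Subgroup.coe_one, ← pow_one p, hgp]
    rw [this, map_one]
  obtain ⟨a, ha⟩ := C.trans i x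
  refine HasCop.mulEquiv (conjIso a ha) ⟨p, hp.1, ?_, ρ ⟨g, hgn⟩, orderOf_eq_prime h2 h1⟩
  rwa [Nat.card_congr (conjIso a ha).toEquiv]

end crd

end Cfsg.Agent.H730.PairCrd
end

-- part: H730/PairRed
section
/-!
# Reduction of S4938 to simple groups (helper730)

* `core` : pairs of primes, for a non-abelian minimal normal subgroup with trivial centralizer;
* `strong_pair`, `strong_one` : strong vanishing elements of a non-abelian minimal normal subgroup `N`
  (`x z` vanishes for all `z ∈ C_G(N)`);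
* `main` : the second half of S4938; `main_one` : the first half.
-/

set_option autoImplicit false
set_option linter.unusedSectionVars false

namespace Cfsg.Agent.H730.PairRed

open Cfsg Cfsg.Agent.H713 Cfsg.Agent.H716.VanRed Cfsg.Agent.H730 Cfsg.Agent.H730.Pair Cfsg.Agent.H730.Col
  Cfsg.Agent.H730.PairCrd Subgroup Cfsg.Agent.Characters.Core

universe u

/-- the choice of the coordinate -/
theorem exists_spec {S : Type u} [Group S] [Finite S] [IsSimpleGroup S] (hna : ∃ a b : S, a * b ≠ b * a)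
    (hpair : PairRow S) (hg : GRow S) {p q : ℕ} (hp : p.Prime) (hq : q.Prime) (hpq : p ≠ q) {op oq : Prop}
    (hop : op → ¬ p ∣ Nat.card S ∧ HasCop S) (hoq : oq → ¬ q ∣ Nat.card S ∧ HasCop S) :
    ∃ s : S, VZ S s ∧ (p ∣ Nat.card S → p ∣ (centralizer ({s} : Set S)).index) ∧
      (q ∣ Nat.card S → q ∣ (centralizer ({s} : Set S)).index) ∧ (op → Gen S s) ∧ (oq → Gen S s) := by
  by_cases ho : op ∨ oq
  · have hcop : HasCop S := ho.elim (fun h => (hop h).2) (fun h => (hoq h).2)
    by_cases h1 : p ∣ Nat.card S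
    · have hoq' : oq := ho.resolve_left fun h => (hop h).1 h1
      obtain ⟨x, h2, h3, h4⟩ := hg hcop p hp h1
      exact ⟨x, h2, fun _ => h4, fun h => absurd h (hoq hoq').1, fun _ => h3, fun _ => h3⟩
    · by_cases h5 : q ∣ Nat.card S
      · obtain ⟨x, h2, h3, h4⟩ := hg hcop q hq h5
        exact ⟨x, h2, fun h => absurd h h1, fun _ => h4, fun _ => h3, fun _ => h3⟩
      · obtain ⟨r, hr, hrd, -⟩ := exists_prime_ne hna 0
        obtain ⟨x, h2, h3, h4⟩ := hg hcop r hr hrd
        exact ⟨x, h2, fun h => absurd h h1, fun h => absurd h h5, fun _ => h3, fun _ => h3⟩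
  · rw [not_or] at ho
    by_cases h1 : p ∣ Nat.card S
    · by_cases h5 : q ∣ Nat.card S
      · obtain ⟨s, h2, h3, h4⟩ := hpair p q hp hq hpq h1 h5
        exact ⟨s, h2, fun _ => h3, fun _ => h4, fun h => absurd h ho.1, fun h => absurd h ho.2⟩
      · obtain ⟨r, hr, hrd, hrp⟩ := exists_prime_ne hna p
        obtain ⟨s, h2, h3, h4⟩ := hpair p r hp hr hrp.symm h1 hrd
        exact ⟨s, h2, fun _ => h3, fun h => absurd h h5, fun h => absurd h ho.1, fun h => absurd h ho.2⟩
    · by_cases h5 : q ∣ Nat.card S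
      · obtain ⟨r, hr, hrd, hrp⟩ := exists_prime_ne hna q
        obtain ⟨s, h2, h3, h4⟩ := hpair q r hq hr hrp.symm h5 hrd
        exact ⟨s, h2, fun h => absurd h h1, fun _ => h3, fun h => absurd h ho.1, fun h => absurd h ho.2⟩
      · obtain ⟨r, r', hr, hr', hne, hrd, hrd', -, -⟩ := exists_two_primes hna 0
        obtain ⟨s, h2, h3, h4⟩ := hpair r r' hr hr' hne hrd hrd'
        exact ⟨s, h2, fun h => absurd h h1, fun h => absurd h h5, fun h => absurd h ho.1, fun h => absurd h ho.2⟩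

section crd

variable {G : Type u} [Group G] [Finite G] {m : ℕ} {N : Subgroup G} [N.Normal] {T : Fin m → Subgroup G}
  {e : N ≃* (∀ i, T i)}

theorem VZ.ne_one {S : Type*} [Group S] {s : S} (h : VZ S s) : s ≠ 1 := by
  rintro rfl
  obtain ⟨θ, hθ⟩ := h
  have h1 := hθ 1
  rw [map_one] at h1
  exact isIrr_apply_one_ne_zero θ.2 h1

/-- **Pairs of primes for a minimal normal subgroup with trivial centralizer.** -/
theorem core (C : Crd N T e) (hm : 0 < m) (hC : centralizer (N : Set G) = ⊥) (hpair : ∀ i, PairRow (T i))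
    (hg : ∀ i, GRow (T i)) {p q : ℕ} [hp : Fact p.Prime] [hq : Fact q.Prime] (hpq : p ≠ q) (hpG : p ∣ Nat.card G)
    (hqG : q ∣ Nat.card G) :
    ∃ n : N, (∃ i, VZ (T i) (e n i)) ∧ p ∣ (centralizer ({(n : G)} : Set G)).index ∧
      q ∣ (centralizer ({(n : G)} : Set G)).index := by
  classical
  let x : Fin m := ⟨0, hm⟩
  let _ := C.act
  have htr : ∀ i j : Fin m, ∃ a : G, a • i = j := by
    intro i j
    obtain ⟨a, ha⟩ := C.trans i j
    refine ⟨a, C.inj ?_⟩
    rw [C.act_spec a i, ha]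
  have hsimple := C.simple x
  let perm : ℕ → Prop := fun r => ∃ (g : G) (k : ℕ) (i : Fin m), g ^ r ^ k = 1 ∧ g • i ≠ i
  have hfix : ∀ r : ℕ, ¬ perm r → ∀ (g : G) (k : ℕ), g ^ r ^ k = 1 →
      ∀ i, (T i).map (MulAut.conj g).toMonoidHom = T i := by
    intro r hr g k hk i
    by_contra h
    exact hr ⟨g, k, i, hk, fun h1 => h ((C.smul_eq_iff g i).1 h1)⟩
  obtain ⟨s, hs, hsp, hsq, hop, hoq⟩ := exists_spec (C.na x) (hpair x) (hg x) hp.1 hq.1 hpq
    (op := ¬ p ∣ Nat.card (T x) ∧ ¬ perm p) (oq := ¬ q ∣ Nat.card (T x) ∧ ¬ perm q)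
    (fun h => ⟨h.1, hasCop_of_out C hC hpG h.1 (hfix p h.2)⟩) (fun h => ⟨h.1, hasCop_of_out C hC hqG h.1 (hfix q h.2)⟩)
  -- the cycles
  have hcyc : ∀ r : ℕ, r.Prime → ∃ Δ : Finset (Fin m), x ∈ Δ ∧ Δ.card ≤ r ∧ (perm r →
      ∃ (g : G) (k : ℕ), g ^ r ^ k = 1 ∧ g • x ≠ x ∧ (∀ j ∈ Δ, g • j ∈ Δ) ∧ ∀ j ∈ Δ, g⁻¹ • j ∈ Δ) := by
    intro r hr
    have : Fact r.Prime := ⟨hr⟩
    by_cases h : perm r
    · obtain ⟨g, k, Δ, h1, h2, h3, h4, h5, h6⟩ := exists_cycle htr h x
      exact ⟨Δ, h2, h3, fun _ => ⟨g, k, h1, h4, h5, h6⟩⟩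
    · exact ⟨{x}, Finset.mem_singleton_self x, by rw [Finset.card_singleton]; exact hr.one_lt.le,
        fun h1 => absurd h1 h⟩
  obtain ⟨Δ, hxΔ, hΔc, hΔ⟩ := hcyc p hp.1
  obtain ⟨Δ', hxΔ', hΔc', hΔ'⟩ := hcyc q hq.1
  obtain ⟨col, hcx, hcp, hcq⟩ := exists_col hp.1.one_lt hq.1.one_lt hpq hΔc hΔc' hxΔ hxΔ'
  obtain ⟨n, hnx, hn⟩ := exists_colored C s (VZ.ne_one hs) col hcx
  have hcol : ∀ h ∈ centralizer ({(n : G)} : Set G), ∀ j : Fin m, col (h • j) = col j := fun h hh j =>
    hn _ _ (C.coord_smul h j n (mem_centralizer_singleton_iff.1 hh))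
  refine ⟨n, ⟨x, by rw [hnx]; exact hs⟩, ?_, ?_⟩
  · by_cases h1 : p ∣ Nat.card (T x)
    · have h2 := index_coord_dvd e n x
      rw [hnx] at h2
      exact (hsp h1).trans h2
    · by_cases h2 : perm p
      · obtain ⟨g, k, h3, h4, h5, h6⟩ := hΔ h2
        exact dvd_of_good hcol hcp h3 hxΔ h4 h5 h6
      · exact dvd_of_out C hC hpG h1 (hfix p h2) (by rw [hnx]; exact hop ⟨h1, h2⟩)
  · by_cases h1 : q ∣ Nat.card (T x)
    · have h2 := index_coord_dvd e n x
      rw [hnx] at h2
      exact (hsq h1).trans h2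
    · by_cases h2 : perm q
      · obtain ⟨g, k, h3, h4, h5, h6⟩ := hΔ' h2
        exact dvd_of_good hcol hcq h3 hxΔ' h4 h5 h6
      · exact dvd_of_out C hC hqG h1 (hfix q h2) (by rw [hnx]; exact hoq ⟨h1, h2⟩)

end crd

/-- All simple rows. -/
structure Rows : Prop where
  pair : ∀ (S : Type u) [Group S] [Finite S] [IsSimpleGroup S], (∃ a b : S, a * b ≠ b * a) → PairRow S
  g : ∀ (S : Type u) [Group S] [Finite S] [IsSimpleGroup S], (∃ a b : S, a * b ≠ b * a) → GRow S

section strong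

variable {G : Type u} [Group G] [Finite G]

/-- A non-abelian minimal normal subgroup in the quotient by its centralizer. -/
theorem quot_facts (N : Subgroup G) [N.Normal]
    (hmin : ∀ M : Subgroup G, M.Normal → M ≤ N → M = ⊥ ∨ M = N) (hna : ¬ ∀ x ∈ N, ∀ y ∈ N, Commute x y) :
    (∀ M : Subgroup (G ⧸ centralizer (N : Set G)), M.Normal → M ≤ N.map (QuotientGroup.mk' (centralizer (N : Set G))) →
      M = ⊥ ∨ M = N.map (QuotientGroup.mk' (centralizer (N : Set G)))) ∧
    (¬ ∀ x ∈ N.map (QuotientGroup.mk' (centralizer (N : Set G))),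
      ∀ y ∈ N.map (QuotientGroup.mk' (centralizer (N : Set G))), Commute x y) ∧
    centralizer (N.map (QuotientGroup.mk' (centralizer (N : Set G))) : Set (G ⧸ centralizer (N : Set G))) = ⊥ := by
  set! C : Subgroup G := centralizer (N : Set G) with hC
  have hdisj : ∀ x ∈ N, x ∈ C → x = 1 := by
    intro x hx hxC
    rcases hmin (N ⊓ C) inferInstance inf_le_left with h | h
    · have : x ∈ N ⊓ C := ⟨hx, hxC⟩
      rw [h] at this
      exact Subgroup.mem_bot.1 this
    · exfalso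
      apply hna
      intro a ha b hb
      have h1 : a ∈ N ⊓ C := by rw [h]; exact ha
      exact (Subgroup.mem_centralizer_iff.1 h1.2 b hb).symm
  have hcomm : ∀ a b : G, QuotientGroup.mk' C a * QuotientGroup.mk' C b = QuotientGroup.mk' C b * QuotientGroup.mk' C a →
      a * b * a⁻¹ * b⁻¹ ∈ C := by
    intro a b h3
    rw [← QuotientGroup.eq_one_iff]
    have h4 : ((a * b * a⁻¹ * b⁻¹ : G) : G ⧸ C) =
      QuotientGroup.mk' C a * QuotientGroup.mk' C b * (QuotientGroup.mk' C a)⁻¹ * (QuotientGroup.mk' C b)⁻¹ := rfl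
    rw [h4, h3]
    group
  refine ⟨?_, ?_, ?_⟩
  · intro M hM hMN
    rcases hmin (N ⊓ M.comap (QuotientGroup.mk' C)) inferInstance inf_le_left with h | h
    · left
      rw [eq_bot_iff]
      intro y hy
      obtain ⟨n, hn, rfl⟩ := hMN hy
      have h1 : n ∈ N ⊓ M.comap (QuotientGroup.mk' C) := ⟨hn, hy⟩
      rw [h] at h1
      rw [Subgroup.mem_bot.1 h1, map_one]
      exact one_mem _
    · right
      apply le_antisymm hMN
      rintro _ ⟨n, hn, rfl⟩
      have h1 : n ∈ N ⊓ M.comap (QuotientGroup.mk' C) := by rw [h]; exact hn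
      exact h1.2
  · intro h
    apply hna
    intro a ha b hb
    have h1 := h _ ⟨a, ha, rfl⟩ _ ⟨b, hb, rfl⟩
    have h5 := hdisj _ (mul_mem (mul_mem (mul_mem ha hb) (inv_mem ha)) (inv_mem hb)) (hcomm a b h1)
    have h6 : a * b = b * a := by
      have := mul_inv_eq_one.1 h5
      exact mul_inv_eq_iff_eq_mul.1 this
    exact h6
  · rw [eq_bot_iff]
    intro y hy
    obtain ⟨g, rfl⟩ := QuotientGroup.mk'_surjective C y
    rw [Subgroup.mem_bot]
    refine (QuotientGroup.eq_one_iff g).2 ?_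
    rw [hC, Subgroup.mem_centralizer_iff]
    intro n hn
    have h1 : QuotientGroup.mk' C n * QuotientGroup.mk' C g = QuotientGroup.mk' C g * QuotientGroup.mk' C n :=
      Subgroup.mem_centralizer_iff.1 hy _ ⟨n, hn, rfl⟩
    have h2 := hcomm n g h1
    have hN : N.Normal := inferInstance
    have h3 : n * g * n⁻¹ * g⁻¹ ∈ N := by
      have h4 : n * g * n⁻¹ * g⁻¹ = n * (g * n⁻¹ * g⁻¹) := by group
      rw [h4]
      exact N.mul_mem hn (hN.conj_mem _ (N.inv_mem hn) g)
    have h5 := hdisj _ h3 h2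
    exact mul_inv_eq_iff_eq_mul.1 (mul_inv_eq_one.1 h5)

/-- **Strong vanishing elements, pairs of primes.** -/
theorem strong_pair (H : Rows.{u}) (N : Subgroup G) [N.Normal]
    (hmin : ∀ M : Subgroup G, M.Normal → M ≤ N → M = ⊥ ∨ M = N) (hna : ¬ ∀ x ∈ N, ∀ y ∈ N, Commute x y)
    {p q : ℕ} (hp : p.Prime) (hq : q.Prime) (hpq : p ≠ q) (hpG : p ∣ Nat.card (G ⧸ centralizer (N : Set G)))
    (hqG : q ∣ Nat.card (G ⧸ centralizer (N : Set G))) :
    ∃ x ∈ N, (∀ z ∈ centralizer (N : Set G), Van G (x * z)) ∧ p ∣ (centralizer ({x} : Set G)).index ∧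
      q ∣ (centralizer ({x} : Set G)).index := by
  have hpf : Fact p.Prime := ⟨hp⟩
  have hqf : Fact q.Prime := ⟨hq⟩
  obtain ⟨h1, h2, h3⟩ := quot_facts N hmin hna
  set C : Subgroup G := centralizer (N : Set G) with hC
  set π := QuotientGroup.mk' C with hπ
  have hπs : Function.Surjective π := QuotientGroup.mk'_surjective C
  have hNn : (N.map π).Normal := Subgroup.Normal.map inferInstance _ hπs
  obtain ⟨m, T, e, hm, hsimple, hTna, hTinj, hTN, hTn, hconj, htrans, he, hcoord⟩ :=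
    Cfsg.Agent.PermutationGroups.OnanScott.exists_coordinates (N.map π) h1 h2
  have Cr : Crd (N.map π) T e := ⟨hsimple, hTna, hTinj, hTN, hconj, htrans, he, hcoord⟩
  obtain ⟨n, ⟨i, hi⟩, hnp, hnq⟩ := core Cr hm h3
    (fun i => by have := hsimple i; exact H.pair _ (hTna i)) (fun i => by have := hsimple i; exact H.g _ (hTna i))
    hpq hpG hqG
  have hv := Cr.van hi
  obtain ⟨x, hx, hxn⟩ := n.2
  rw [← hxn] at hv hnp hnq
  refine ⟨x, hx, fun z hz => ?_, hnp.trans (index_centralizer_map_dvd π hπs x),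
    hnq.trans (index_centralizer_map_dvd π hπs x)⟩
  refine Van.of_surjective π hπs ?_
  have h4 : π (x * z) = π x := by
    rw [map_mul]
    have : π z = 1 := (QuotientGroup.eq_one_iff z).2 hz
    rw [this, mul_one]
  rw [h4]
  exact hv

/-- the order of `G / C_G(N)` is divisible by a prime different from `p` -/
theorem exists_other (N : Subgroup G) [N.Normal]
    (hmin : ∀ M : Subgroup G, M.Normal → M ≤ N → M = ⊥ ∨ M = N) (hna : ¬ ∀ x ∈ N, ∀ y ∈ N, Commute x y) (p : ℕ) :
    ∃ q : ℕ, q.Prime ∧ q ∣ Nat.card (G ⧸ centralizer (N : Set G)) ∧ q ≠ p := by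
  obtain ⟨h1, h2, h3⟩ := quot_facts N hmin hna
  have hNn : (N.map (QuotientGroup.mk' (centralizer (N : Set G)))).Normal :=
    Subgroup.Normal.map inferInstance _ (QuotientGroup.mk'_surjective _)
  obtain ⟨m, T, e, hm, hsimple, hTna, -, -, -, -, -, -, -⟩ :=
    Cfsg.Agent.PermutationGroups.OnanScott.exists_coordinates _ h1 h2
  have := hsimple ⟨0, hm⟩
  obtain ⟨q, hq, hqd, hqp⟩ := exists_prime_ne (hTna ⟨0, hm⟩) p
  exact ⟨q, hq, hqd.trans (Subgroup.card_subgroup_dvd_card _), hqp⟩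

/-- **Strong vanishing elements, one prime** (helper735's form). -/
theorem strong_one (H : Rows.{u}) (N : Subgroup G) [N.Normal]
    (hmin : ∀ M : Subgroup G, M.Normal → M ≤ N → M = ⊥ ∨ M = N) (hna : ¬ ∀ x ∈ N, ∀ y ∈ N, Commute x y)
    {p : ℕ} (hp : p.Prime) (hpG : p ∣ Nat.card (G ⧸ centralizer (N : Set G))) :
    ∃ x ∈ N, (∀ z ∈ centralizer (N : Set G), Van G (x * z)) ∧ p ∣ (centralizer ({x} : Set G)).index := by
  obtain ⟨q, hq, hqG, hqp⟩ := exists_other N hmin hna p
  obtain ⟨x, h1, h2, h3, -⟩ := strong_pair H N hmin hna hp hq hqp.symm hpG hqG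
  exact ⟨x, h1, h2, h3⟩

end strong

section main

variable {G : Type u} [Group G] [Finite G]

/-- a minimal normal subgroup below a non-trivial normal subgroup -/
theorem exists_minimal (K : Subgroup G) [K.Normal] (hK : K ≠ ⊥) :
    ∃ N : Subgroup G, N.Normal ∧ N ≠ ⊥ ∧ N ≤ K ∧ ∀ M : Subgroup G, M.Normal → M ≤ N → M = ⊥ ∨ M = N := by
  have hfin : {T : Subgroup G | T.Normal ∧ T ≠ ⊥ ∧ T ≤ K}.Finite := Set.toFinite _
  have hne : {T : Subgroup G | T.Normal ∧ T ≠ ⊥ ∧ T ≤ K}.Nonempty := ⟨K, inferInstance, hK, le_rfl⟩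
  obtain ⟨T, ⟨hT0, hTn, hTK⟩, hTmin⟩ := hfin.exists_minimal hne
  refine ⟨T, hT0, hTn, hTK, fun S hS hST => ?_⟩
  by_cases hS0 : S = ⊥
  · exact Or.inl hS0
  · exact Or.inr (le_antisymm hST (hTmin ⟨hS, hS0, hST.trans hTK⟩ hST))

/-- minimal normal subgroups are not abelian -/
theorem not_comm_of_fitting (hF : fittingSubgroup G = ⊥) (N : Subgroup G) [hN : N.Normal] (hN0 : N ≠ ⊥) :
    ¬ ∀ x ∈ N, ∀ y ∈ N, Commute x y := by
  intro h
  apply hN0
  rw [eq_bot_iff, ← hF]
  let _ : CommGroup N := { (inferInstance : Group N) with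
    mul_comm := fun a b => Subtype.ext (h a a.2 b b.2) }
  have h1 : Group.IsNilpotent N := CommGroup.isNilpotent
  exact le_sSup ⟨hN, h1⟩

/-- every prime divisor of `|G|` divides `|G / C_G(N)|` for a minimal normal subgroup `N` -/
theorem exists_min_dvd (hF : fittingSubgroup G = ⊥) {p : ℕ} (hp : p.Prime) (hpG : p ∣ Nat.card G) :
    ∃ N : Subgroup G, N.Normal ∧ N ≠ ⊥ ∧ (∀ M : Subgroup G, M.Normal → M ≤ N → M = ⊥ ∨ M = N) ∧
      p ∣ Nat.card (G ⧸ centralizer (N : Set G)) := by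
  have hpf : Fact p.Prime := ⟨hp⟩
  by_contra hcon
  push Not at hcon
  obtain ⟨y, hy⟩ := exists_prime_orderOf_dvd_card' p hpG
  have hyC : ∀ N : Subgroup G, N.Normal → N ≠ ⊥ → (∀ M : Subgroup G, M.Normal → M ≤ N → M = ⊥ ∨ M = N) →
      y ∈ centralizer (N : Set G) := by
    intro N hN hN0 hmin
    have h1 := hcon N hN hN0 hmin
    rw [← QuotientGroup.eq_one_iff, ← orderOf_eq_one_iff]
    have h2 : orderOf (y : G ⧸ centralizer (N : Set G)) ∣ p := by
      rw [← hy]
      exact orderOf_map_dvd (QuotientGroup.mk' (centralizer (N : Set G))) y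
    rcases (Nat.dvd_prime hp).1 h2 with h3 | h3
    · exact h3
    · exact absurd (h3 ▸ _root_.orderOf_dvd_natCard (y : G ⧸ centralizer (N : Set G))) h1
  have hK : normalClosure ({y} : Set G) ≠ ⊥ := by
    intro h
    have h1 : y ∈ normalClosure ({y} : Set G) := subset_normalClosure (Set.mem_singleton y)
    rw [h, Subgroup.mem_bot] at h1
    rw [h1, orderOf_one] at hy
    exact hp.one_lt.ne hy
  obtain ⟨N, hN, hN0, hNK, hmin⟩ := exists_minimal _ hK
  apply not_comm_of_fitting hF N hN0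
  have h1 : N ≤ centralizer (N : Set G) := by
    refine hNK.trans ?_
    refine normalClosure_le_normal ?_
    rw [Set.singleton_subset_iff]
    exact hyC N hN hN0 hmin
  intro a ha b hb
  exact (Subgroup.mem_centralizer_iff.1 (h1 ha) b hb).symm

/-- **The second half of S4938.** -/
theorem main (H : Rows.{u}) (hF : fittingSubgroup G = ⊥) {p q : ℕ} (hp : p.Prime) (hq : q.Prime) (hpq : p ≠ q)
    (hpG : p ∣ Nat.card G) (hqG : q ∣ Nat.card G) :
    ∃ g : G, Van G g ∧ p ∣ (centralizer ({g} : Set G)).index ∧ q ∣ (centralizer ({g} : Set G)).index := by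
  obtain ⟨N, hN, hN0, hmin, hpN⟩ := exists_min_dvd hF hp hpG
  obtain ⟨N', hN', hN0', hmin', hqN'⟩ := exists_min_dvd hF hq hqG
  have hna := not_comm_of_fitting hF N hN0
  have hna' := not_comm_of_fitting hF N' hN0'
  by_cases h1 : q ∣ Nat.card (G ⧸ centralizer (N : Set G))
  · obtain ⟨x, -, h2, h3, h4⟩ := strong_pair H N hmin hna hp hq hpq hpN h1
    exact ⟨x * 1, h2 1 (one_mem _), by rwa [mul_one], by rwa [mul_one]⟩
  · have hne : N ≠ N' := by
      rintro rfl
      exact h1 hqN'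
    have hinf : N ⊓ N' = ⊥ := by
      rcases hmin (N ⊓ N') inferInstance inf_le_left with h | h
      · exact h
      · exfalso
        have h2 : N ≤ N' := by rw [← h]; exact inf_le_right
        rcases hmin' N hN h2 with h3 | h3
        · exact hN0 h3
        · exact hne h3
    have hcomm : ∀ a ∈ N, ∀ b ∈ N', a * b = b * a := by
      intro a ha b hb
      have h2 : a * b * a⁻¹ * b⁻¹ ∈ N ⊓ N' := by
        refine ⟨?_, ?_⟩
        · have h3 : a * b * a⁻¹ * b⁻¹ = a * (b * a⁻¹ * b⁻¹) := by group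
          show a * b * a⁻¹ * b⁻¹ ∈ N
          rw [h3]
          exact N.mul_mem ha (hN.conj_mem _ (N.inv_mem ha) b)
        · exact N'.mul_mem (hN'.conj_mem _ hb a) (N'.inv_mem hb)
      rw [hinf, Subgroup.mem_bot] at h2
      exact mul_inv_eq_iff_eq_mul.1 (mul_inv_eq_one.1 h2)
    obtain ⟨x, hx, hxv, hxp⟩ := strong_one H N hmin hna hp hpN
    obtain ⟨y, hy, -, hyq⟩ := strong_one H N' hmin' hna' hq hqN'
    have hyC : y ∈ centralizer (N : Set G) :=
      Subgroup.mem_centralizer_iff.2 fun a ha => hcomm a ha y hy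
    have hkey : ∀ g ∈ centralizer ({x * y} : Set G), g * x = x * g ∧ g * y = y * g := by
      intro g hg
      have h2 : g * (x * y) = x * y * g := mem_centralizer_singleton_iff.1 hg
      have h3 : x⁻¹ * (g * x * g⁻¹) = y * (g * y * g⁻¹)⁻¹ := by
        have h4 : g * x * g⁻¹ * (g * y * g⁻¹) = x * y := by
          calc g * x * g⁻¹ * (g * y * g⁻¹) = g * (x * y) * g⁻¹ := by group
            _ = x * y * g * g⁻¹ := by rw [h2]
            _ = x * y := by group
        rw [eq_mul_inv_iff_mul_eq, mul_assoc, h4]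
        group
      have h5 : x⁻¹ * (g * x * g⁻¹) ∈ N ⊓ N' := by
        refine ⟨N.mul_mem (N.inv_mem hx) (hN.conj_mem _ hx g), ?_⟩
        show x⁻¹ * (g * x * g⁻¹) ∈ N'
        rw [h3]
        exact N'.mul_mem hy (N'.inv_mem (hN'.conj_mem _ hy g))
      rw [hinf, Subgroup.mem_bot] at h5
      have h6 : g * x * g⁻¹ = x := (inv_mul_eq_one.1 h5).symm
      have h7 : g * x = x * g := mul_inv_eq_iff_eq_mul.1 h6
      refine ⟨h7, ?_⟩
      rw [h5] at h3
      have h8 : g * y * g⁻¹ = y := (mul_inv_eq_one.1 h3.symm).symm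
      exact mul_inv_eq_iff_eq_mul.1 h8
    refine ⟨x * y, hxv y hyC, hxp.trans (index_dvd_of_le ?_), hyq.trans (index_dvd_of_le ?_)⟩
    · exact fun g hg => mem_centralizer_singleton_iff.2 (hkey g hg).1
    · exact fun g hg => mem_centralizer_singleton_iff.2 (hkey g hg).2

/-- **The first half of S4938.** -/
theorem main_one (H : Rows.{u}) (hF : fittingSubgroup G = ⊥) {p : ℕ} (hp : p.Prime) (hpG : p ∣ Nat.card G) :
    ∃ g : G, Van G g ∧ p ∣ (centralizer ({g} : Set G)).index := by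
  obtain ⟨N, hN, hN0, hmin, hpN⟩ := exists_min_dvd hF hp hpG
  obtain ⟨x, -, h2, h3⟩ := strong_one H N hmin (not_comm_of_fitting hF N hN0) hp hpN
  exact ⟨x * 1, h2 1 (one_mem _), by rwa [mul_one]⟩

/-- **S4938 from the rows.** -/
theorem s4938 (H : Rows.{u}) (hF : fittingSubgroup G = ⊥) :
    (∀ p : ℕ, p.Prime → p ∣ Nat.card G → ∃ g : G, (∃ χ : Cfsg.IrrCharacter G, (χ : G → ℂ) g = 0) ∧
      p ∣ (Subgroup.centralizer ({g} : Set G)).index) ∧
    (∀ p q : ℕ, p.Prime → q.Prime → p ≠ q → p ∣ Nat.card G → q ∣ Nat.card G →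
      ∃ g : G, (∃ χ : Cfsg.IrrCharacter G, (χ : G → ℂ) g = 0) ∧
        p * q ∣ (Subgroup.centralizer ({g} : Set G)).index) := by
  refine ⟨fun p hp hpG => main_one H hF hp hpG, fun p q hp hq hpq hpG hqG => ?_⟩
  obtain ⟨g, h1, h2, h3⟩ := main H hF hp hq hpq hpG hqG
  exact ⟨g, h1, ((Nat.coprime_primes hp hq).2 hpq).mul_dvd_of_dvd_of_dvd h2 h3⟩

end main

end Cfsg.Agent.H730.PairRed
end
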